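import Cfsg.Agent.Lib.PermComp.OutP.Master3
import Cfsg.Agent.Lib.PermComp.OutP.McLo.DataP0

set_option autoImplicit false
set_option maxRecDepth 100000
set_option maxHeartbeats 0

namespace Cfsg.Agent.Lib.PermComp.OutP.McLo

open Cfsg Cfsg.Agent.Lib.PermComp.OutP
open Cfsg.Agent.Lib.PermComp.Core (force)
open Cfsg.Agent.Lib.PermComp.Kron (rangeAll rangeAll_spec)

def n : Nat := 275
def mF : Nat := 63
noncomputable def TT_T : Nat := (Nat.lor (Nat.lor (Nat.lor TT_p0 (Nat.shiftLeft (Nat.lor TT_p1 (Nat.shiftLeft TT_p2 15993)) 15993)) (Nat.shiftLeft (Nat.lor TT_p3 (Nat.shiftLeft (Nat.lor TT_p4 (Nat.shiftLeft TT_p5 15993)) 15993)) 47979)) (Nat.shiftLeft (Nat.lor (Nat.lor TT_p6 (Nat.shiftLeft (Nat.lor TT_p7 (Nat.shiftLeft TT_p8 15993)) 15993)) (Nat.shiftLeft (Nat.lor (Nat.lor TT_p9 (Nat.shiftLeft TT_p10 15993)) (Nat.shiftLeft (Nat.lor TT_p11 (Nat.shiftLeft TT_p12 15993)) 31986)) 47979))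 95958))
noncomputable def TT_M1 : Nat := Nat.sub (Nat.shiftLeft 1 18432) 1
noncomputable def TT_M2 : Nat := Nat.sub (Nat.shiftLeft 1 576) 1
noncomputable def TT (p : Nat) : Nat :=
  force (Nat.shiftRight p 11) fun b1 => force (Nat.land (Nat.shiftRight p 6) 31) fun b2 =>
    Nat.land (Nat.shiftRight (Nat.land (Nat.shiftRight (Nat.land (Nat.shiftRight TT_T (Nat.mul b1 18432)) TT_M1) (Nat.mul b2 576)) TT_M2) (Nat.mul (Nat.land p 63) 9)) 511

noncomputable def F (g p : Nat) : Nat := TT (Nat.add (Nat.mul g 275) p)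

def progL : List (List Nat) := [
  [],
  [],
  [0, 0, 0, 1, 0, 1, 0, 1, 0, 0, 0, 1, 1, 0, 1, 0, 1, 1, 1, 1, 1],
  [1, 0, 0, 0, 0, 1, 0, 1, 0, 1, 1, 0, 1, 0, 1, 1, 0, 1, 0, 0, 1, 1],
  [2, 3, 2, 3, 2, 3, 3, 3, 3, 2, 2, 2, 3, 3, 3, 2, 2],
  [2, 2, 2, 3, 2, 2, 2, 3, 3, 3, 3, 2, 3, 3, 2, 2, 2, 3, 2, 3],
  [5, 4, 4, 4, 4, 5, 4, 4, 4, 5, 5, 5, 4, 5, 5],
  [4, 4, 4, 4, 5, 5, 5, 4, 5, 5, 5, 5, 5, 5, 4, 5, 5, 4],
  [4, 5, 5, 5, 5, 4, 5, 5, 5, 5, 5, 4, 4, 5, 4, 5, 4],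
  [6, 8, 7, 8, 7, 6, 7, 8, 6, 7, 7, 7, 7, 7, 8],
  [7, 7, 6, 8, 8, 6, 7, 6, 7, 6, 7, 8, 8, 7, 8, 7, 7],
  [0, 1, 0, 1, 1, 1, 0, 1, 0, 1, 1, 1],
  [11, 11, 11, 11],
  [1, 12, 1, 11],
  [1, 0, 1, 1, 1, 1, 1, 1, 1, 0, 0, 1],
  [14, 14, 14, 14, 14, 14, 14, 14, 14, 14, 14, 14, 14, 14],
  [1, 15, 1, 14],
  [1, 1, 1, 0, 1, 0, 0, 1, 1, 0, 1, 1],
  [17, 17, 17, 17, 17, 17, 17, 17, 17, 17, 17, 17, 17, 17, 17, 17, 17, 17, 17, 17, 17, 17, 17, 17, 17, 17, 17, 17, 17],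
  [1, 18, 1, 17],
  [0, 1, 1, 1, 0, 1, 1, 1, 1, 0, 0, 1],
  [20, 20, 20, 20, 20, 20, 20, 20, 20, 20, 20, 20, 20, 20, 20, 20, 20, 20, 20, 20, 20, 20, 20, 20, 20, 20, 20, 20, 20],
  [1, 21, 1, 20],
  [0, 1, 0, 0, 0, 1, 1, 1, 1, 0, 1, 1],
  [23, 23, 23, 23, 23, 23, 23, 23, 23, 23, 23],
  [1, 24, 1, 23],
  [1, 1, 0, 1, 1, 1, 0, 1, 1, 0, 1, 0],
  [26, 26, 26, 26, 26, 26, 26, 26],
  [1, 27, 1, 26],
  [13, 13, 13],
  [16, 16, 16],
  [19, 19, 19],
  [22, 22, 22],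
  [25, 25, 25],
  [26, 28, 28],
  [33, 30, 34, 34, 34, 29, 30, 31, 32, 34, 32, 31, 29, 32, 30, 29, 29],
  [30, 33, 30, 34, 32, 30, 34, 33, 33, 30, 31, 33, 32, 29, 32, 33],
  [35, 36, 36, 36, 36, 36, 35, 35, 35, 36, 35, 35],
  [36, 36, 36, 35, 36, 36, 35, 36, 36, 35, 35, 35, 36, 36, 36, 36, 36, 35],
  [0, 1, 1, 1, 1, 0, 0, 0, 0, 1, 0, 0],
  [1, 1, 0, 1, 1, 1, 0, 1, 0, 0, 1, 0],
  [0, 0, 1, 1, 1, 0, 1, 1, 0, 1, 0, 0],
  [1, 0, 0, 0, 1, 0, 1, 0, 1, 0, 0, 1],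
  [0, 1, 0, 0, 0, 1, 1, 0, 1, 0, 1, 1],
  [0, 1, 0, 0, 1, 1, 1, 1, 0, 1, 1, 1],
  [1, 1, 1, 0, 0, 1, 1, 1, 0, 0, 0, 1],
  [1, 0, 1, 0, 0, 1, 1, 0, 0, 1, 1, 0],
  [39, 39, 39, 39, 39, 39],
  [40, 40, 40],
  [41, 41, 41, 41, 41, 41, 41, 41, 41, 41, 41, 41, 41, 41, 41],
  [42, 42, 42, 42],
  [43, 43, 43, 43, 43, 43, 43, 43, 43, 43, 43, 43, 43, 43, 43],
  [44, 44, 44, 44, 44, 44, 44, 44, 44, 44, 44, 44, 44, 44, 44],
  [45, 45, 45, 45, 45, 45],
  [46, 46, 46],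
  [7, 6, 5, 5, 5, 4, 5, 2, 3, 3, 3, 2, 3, 3],
  [6, 8, 6, 7, 8, 6, 4, 5, 4, 5, 2, 3, 3, 3, 2, 2, 3],
  [7, 7, 6, 7, 4, 4, 5, 5, 4, 5, 3, 2],
  [9, 9, 7, 5, 4, 4, 3, 2, 3, 2, 2, 1, 0, 0, 0, 0, 0, 1, 0, 0, 1, 0],
  [9, 7, 7, 8, 8, 4, 5, 4, 4, 3, 2, 3, 3, 2, 3, 2, 0, 0, 0, 1, 0, 0, 0, 0, 0, 0, 0],
  [9, 9, 6, 5, 4, 4, 5, 5, 5, 4, 2, 3, 2, 3, 2, 2, 2, 1, 0, 1, 0, 1, 0, 1, 0, 0, 0, 1, 0, 0],
  [9, 9, 7, 7, 8, 5, 5, 4, 3, 2, 2, 1, 0, 0, 0, 0, 0, 0, 1],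
  [6, 8, 7, 8, 4, 4, 4, 4, 2, 2, 2, 2, 3, 2, 0, 0, 0, 0, 0, 1, 0, 1, 0, 0, 0, 1]]
def prog (g : Nat) : List Nat := progL.getD g []

def prog2L : List (List Nat) := [
  [],
  [],
  [64, 63, 64, 64, 63, 64, 64, 64, 63, 63, 63, 63, 63, 64, 63, 63, 64, 63, 63, 64, 64, 63, 63, 64, 64, 64, 64, 63, 64, 63, 63, 64, 63, 64, 64, 64, 64, 64, 63, 63],
  [65],
  [63, 63, 63, 63, 64, 63, 63, 63, 64, 63, 64, 63],
  [67, 67, 67, 67, 67, 67, 67],
  [63, 63, 64, 63, 64, 64, 64, 64, 64, 63, 64, 63],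
  [69, 69, 69, 69, 69],
  [64, 63, 63, 63, 63, 63, 63, 64, 63, 63, 63, 64],
  [71, 71, 71, 71, 71, 71],
  [64, 63, 64, 63, 64, 64, 64, 63, 64, 64, 64, 64],
  [73, 73, 73, 73],
  [63, 63, 64, 63, 64, 64, 63, 63, 63, 64, 64, 64, 63, 64, 63, 64, 64, 63, 63, 63, 64, 64, 64, 63, 63, 64, 63, 64, 64, 64, 64, 64, 64, 64, 64, 63, 63, 64, 63, 63],
  [75, 75, 75, 75],
  [68, 70, 72, 74, 76, 74, 72, 70, 68]]
def prog2 (g : Nat) : List Nat := prog2L.getD (g - 63) []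

noncomputable def dL0_pt_T : Nat := dL0_pt_p0
noncomputable def dL0_pt_M1 : Nat := Nat.sub (Nat.shiftLeft 1 36864) 1
noncomputable def dL0_pt_M2 : Nat := Nat.sub (Nat.shiftLeft 1 288) 1
noncomputable def dL0_pt (p : Nat) : Nat :=
  force (Nat.shiftRight p 12) fun b1 => force (Nat.land (Nat.shiftRight p 5) 127) fun b2 =>
    Nat.land (Nat.shiftRight (Nat.land (Nat.shiftRight (Nat.land (Nat.shiftRight dL0_pt_T (Nat.mul b1 36864)) dL0_pt_M1) (Nat.mul b2 288)) dL0_pt_M2) (Nat.mul (Nat.land p 31) 9)) 511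

noncomputable def dL0_pi_T : Nat := dL0_pi_p0
noncomputable def dL0_pi_M1 : Nat := Nat.sub (Nat.shiftLeft 1 36864) 1
noncomputable def dL0_pi_M2 : Nat := Nat.sub (Nat.shiftLeft 1 288) 1
noncomputable def dL0_pi (p : Nat) : Nat :=
  force (Nat.shiftRight p 12) fun b1 => force (Nat.land (Nat.shiftRight p 5) 127) fun b2 =>
    Nat.land (Nat.shiftRight (Nat.land (Nat.shiftRight (Nat.land (Nat.shiftRight dL0_pi_T (Nat.mul b1 36864)) dL0_pi_M1) (Nat.mul b2 288)) dL0_pi_M2) (Nat.mul (Nat.land p 31) 9)) 511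

noncomputable def dL0_tr_T : Nat := dL0_tr_p0
noncomputable def dL0_tr_M1 : Nat := Nat.sub (Nat.shiftLeft 1 40960) 1
noncomputable def dL0_tr_M2 : Nat := Nat.sub (Nat.shiftLeft 1 320) 1
noncomputable def dL0_tr (p : Nat) : Nat :=
  force (Nat.shiftRight p 12) fun b1 => force (Nat.land (Nat.shiftRight p 5) 127) fun b2 =>
    Nat.land (Nat.shiftRight (Nat.land (Nat.shiftRight (Nat.land (Nat.shiftRight dL0_tr_T (Nat.mul b1 40960)) dL0_tr_M1) (Nat.mul b2 320)) dL0_tr_M2) (Nat.mul (Nat.land p 31) 10)) 1023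

noncomputable def dL0 : LevD := ⟨0, 275, 2, 0, dL0_pt, dL0_pi, dL0_tr⟩

noncomputable def dL1_pt_T : Nat := dL1_pt_p0
noncomputable def dL1_pt_M1 : Nat := Nat.sub (Nat.shiftLeft 1 36864) 1
noncomputable def dL1_pt_M2 : Nat := Nat.sub (Nat.shiftLeft 1 288) 1
noncomputable def dL1_pt (p : Nat) : Nat :=
  force (Nat.shiftRight p 12) fun b1 => force (Nat.land (Nat.shiftRight p 5) 127) fun b2 =>
    Nat.land (Nat.shiftRight (Nat.land (Nat.shiftRight (Nat.land (Nat.shiftRight dL1_pt_T (Nat.mul b1 36864)) dL1_pt_M1) (Nat.mul b2 288)) dL1_pt_M2) (Nat.mul (Nat.land p 31) 9)) 511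

noncomputable def dL1_pi_T : Nat := dL1_pi_p0
noncomputable def dL1_pi_M1 : Nat := Nat.sub (Nat.shiftLeft 1 32768) 1
noncomputable def dL1_pi_M2 : Nat := Nat.sub (Nat.shiftLeft 1 256) 1
noncomputable def dL1_pi (p : Nat) : Nat :=
  force (Nat.shiftRight p 12) fun b1 => force (Nat.land (Nat.shiftRight p 5) 127) fun b2 =>
    Nat.land (Nat.shiftRight (Nat.land (Nat.shiftRight (Nat.land (Nat.shiftRight dL1_pi_T (Nat.mul b1 32768)) dL1_pi_M1) (Nat.mul b2 256)) dL1_pi_M2) (Nat.mul (Nat.land p 31) 8)) 255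

noncomputable def dL1_tr_T : Nat := dL1_tr_p0
noncomputable def dL1_tr_M1 : Nat := Nat.sub (Nat.shiftLeft 1 36864) 1
noncomputable def dL1_tr_M2 : Nat := Nat.sub (Nat.shiftLeft 1 288) 1
noncomputable def dL1_tr (p : Nat) : Nat :=
  force (Nat.shiftRight p 12) fun b1 => force (Nat.land (Nat.shiftRight p 5) 127) fun b2 =>
    Nat.land (Nat.shiftRight (Nat.land (Nat.shiftRight (Nat.land (Nat.shiftRight dL1_tr_T (Nat.mul b1 36864)) dL1_tr_M1) (Nat.mul b2 288)) dL1_tr_M2) (Nat.mul (Nat.land p 31) 9)) 511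

noncomputable def dL1 : LevD := ⟨1, 162, 2, 2, dL1_pt, dL1_pi, dL1_tr⟩

noncomputable def dL2_pt_T : Nat := dL2_pt_p0
noncomputable def dL2_pt_M1 : Nat := Nat.sub (Nat.shiftLeft 1 36864) 1
noncomputable def dL2_pt_M2 : Nat := Nat.sub (Nat.shiftLeft 1 288) 1
noncomputable def dL2_pt (p : Nat) : Nat :=
  force (Nat.shiftRight p 12) fun b1 => force (Nat.land (Nat.shiftRight p 5) 127) fun b2 =>
    Nat.land (Nat.shiftRight (Nat.land (Nat.shiftRight (Nat.land (Nat.shiftRight dL2_pt_T (Nat.mul b1 36864)) dL2_pt_M1) (Nat.mul b2 288)) dL2_pt_M2) (Nat.mul (Nat.land p 31) 9)) 511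

noncomputable def dL2_pi_T : Nat := dL2_pi_p0
noncomputable def dL2_pi_M1 : Nat := Nat.sub (Nat.shiftLeft 1 28672) 1
noncomputable def dL2_pi_M2 : Nat := Nat.sub (Nat.shiftLeft 1 224) 1
noncomputable def dL2_pi (p : Nat) : Nat :=
  force (Nat.shiftRight p 12) fun b1 => force (Nat.land (Nat.shiftRight p 5) 127) fun b2 =>
    Nat.land (Nat.shiftRight (Nat.land (Nat.shiftRight (Nat.land (Nat.shiftRight dL2_pi_T (Nat.mul b1 28672)) dL2_pi_M1) (Nat.mul b2 224)) dL2_pi_M2) (Nat.mul (Nat.land p 31) 7)) 127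

noncomputable def dL2_tr_T : Nat := dL2_tr_p0
noncomputable def dL2_tr_M1 : Nat := Nat.sub (Nat.shiftLeft 1 32768) 1
noncomputable def dL2_tr_M2 : Nat := Nat.sub (Nat.shiftLeft 1 256) 1
noncomputable def dL2_tr (p : Nat) : Nat :=
  force (Nat.shiftRight p 12) fun b1 => force (Nat.land (Nat.shiftRight p 5) 127) fun b2 =>
    Nat.land (Nat.shiftRight (Nat.land (Nat.shiftRight (Nat.land (Nat.shiftRight dL2_tr_T (Nat.mul b1 32768)) dL2_tr_M1) (Nat.mul b2 256)) dL2_tr_M2) (Nat.mul (Nat.land p 31) 8)) 255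

noncomputable def dL2 : LevD := ⟨2, 105, 2, 4, dL2_pt, dL2_pi, dL2_tr⟩

noncomputable def dL3_pt_T : Nat := dL3_pt_p0
noncomputable def dL3_pt_M1 : Nat := Nat.sub (Nat.shiftLeft 1 36864) 1
noncomputable def dL3_pt_M2 : Nat := Nat.sub (Nat.shiftLeft 1 288) 1
noncomputable def dL3_pt (p : Nat) : Nat :=
  force (Nat.shiftRight p 12) fun b1 => force (Nat.land (Nat.shiftRight p 5) 127) fun b2 =>
    Nat.land (Nat.shiftRight (Nat.land (Nat.shiftRight (Nat.land (Nat.shiftRight dL3_pt_T (Nat.mul b1 36864)) dL3_pt_M1) (Nat.mul b2 288)) dL3_pt_M2) (Nat.mul (Nat.land p 31) 9)) 511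

noncomputable def dL3_pi_T : Nat := dL3_pi_p0
noncomputable def dL3_pi_M1 : Nat := Nat.sub (Nat.shiftLeft 1 28672) 1
noncomputable def dL3_pi_M2 : Nat := Nat.sub (Nat.shiftLeft 1 224) 1
noncomputable def dL3_pi (p : Nat) : Nat :=
  force (Nat.shiftRight p 12) fun b1 => force (Nat.land (Nat.shiftRight p 5) 127) fun b2 =>
    Nat.land (Nat.shiftRight (Nat.land (Nat.shiftRight (Nat.land (Nat.shiftRight dL3_pi_T (Nat.mul b1 28672)) dL3_pi_M1) (Nat.mul b2 224)) dL3_pi_M2) (Nat.mul (Nat.land p 31) 7)) 127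

noncomputable def dL3_tr_T : Nat := dL3_tr_p0
noncomputable def dL3_tr_M1 : Nat := Nat.sub (Nat.shiftLeft 1 32768) 1
noncomputable def dL3_tr_M2 : Nat := Nat.sub (Nat.shiftLeft 1 256) 1
noncomputable def dL3_tr (p : Nat) : Nat :=
  force (Nat.shiftRight p 12) fun b1 => force (Nat.land (Nat.shiftRight p 5) 127) fun b2 =>
    Nat.land (Nat.shiftRight (Nat.land (Nat.shiftRight (Nat.land (Nat.shiftRight dL3_tr_T (Nat.mul b1 32768)) dL3_tr_M1) (Nat.mul b2 256)) dL3_tr_M2) (Nat.mul (Nat.land p 31) 8)) 255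

noncomputable def dL3 : LevD := ⟨4, 64, 3, 6, dL3_pt, dL3_pi, dL3_tr⟩

noncomputable def dL4_pt_T : Nat := dL4_pt_p0
noncomputable def dL4_pt_M1 : Nat := Nat.sub (Nat.shiftLeft 1 36864) 1
noncomputable def dL4_pt_M2 : Nat := Nat.sub (Nat.shiftLeft 1 288) 1
noncomputable def dL4_pt (p : Nat) : Nat :=
  force (Nat.shiftRight p 12) fun b1 => force (Nat.land (Nat.shiftRight p 5) 127) fun b2 =>
    Nat.land (Nat.shiftRight (Nat.land (Nat.shiftRight (Nat.land (Nat.shiftRight dL4_pt_T (Nat.mul b1 36864)) dL4_pt_M1) (Nat.mul b2 288)) dL4_pt_M2) (Nat.mul (Nat.land p 31) 9)) 511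

noncomputable def dL4_pi_T : Nat := dL4_pi_p0
noncomputable def dL4_pi_M1 : Nat := Nat.sub (Nat.shiftLeft 1 8192) 1
noncomputable def dL4_pi_M2 : Nat := Nat.sub (Nat.shiftLeft 1 64) 1
noncomputable def dL4_pi (p : Nat) : Nat :=
  force (Nat.shiftRight p 12) fun b1 => force (Nat.land (Nat.shiftRight p 5) 127) fun b2 =>
    Nat.land (Nat.shiftRight (Nat.land (Nat.shiftRight (Nat.land (Nat.shiftRight dL4_pi_T (Nat.mul b1 8192)) dL4_pi_M1) (Nat.mul b2 64)) dL4_pi_M2) (Nat.mul (Nat.land p 31) 2)) 3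

noncomputable def dL4_tr_T : Nat := dL4_tr_p0
noncomputable def dL4_tr_M1 : Nat := Nat.sub (Nat.shiftLeft 1 8192) 1
noncomputable def dL4_tr_M2 : Nat := Nat.sub (Nat.shiftLeft 1 64) 1
noncomputable def dL4_tr (p : Nat) : Nat :=
  force (Nat.shiftRight p 12) fun b1 => force (Nat.land (Nat.shiftRight p 5) 127) fun b2 =>
    Nat.land (Nat.shiftRight (Nat.land (Nat.shiftRight (Nat.land (Nat.shiftRight dL4_tr_T (Nat.mul b1 8192)) dL4_tr_M1) (Nat.mul b2 64)) dL4_tr_M2) (Nat.mul (Nat.land p 31) 2)) 3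

noncomputable def dL4 : LevD := ⟨5, 3, 2, 9, dL4_pt, dL4_pi, dL4_tr⟩

noncomputable def cL0_pt_T : Nat := cL0_pt_p0
noncomputable def cL0_pt_M1 : Nat := Nat.sub (Nat.shiftLeft 1 36864) 1
noncomputable def cL0_pt_M2 : Nat := Nat.sub (Nat.shiftLeft 1 288) 1
noncomputable def cL0_pt (p : Nat) : Nat :=
  force (Nat.shiftRight p 12) fun b1 => force (Nat.land (Nat.shiftRight p 5) 127) fun b2 =>
    Nat.land (Nat.shiftRight (Nat.land (Nat.shiftRight (Nat.land (Nat.shiftRight cL0_pt_T (Nat.mul b1 36864)) cL0_pt_M1) (Nat.mul b2 288)) cL0_pt_M2) (Nat.mul (Nat.land p 31) 9)) 511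

noncomputable def cL0_pi_T : Nat := cL0_pi_p0
noncomputable def cL0_pi_M1 : Nat := Nat.sub (Nat.shiftLeft 1 32768) 1
noncomputable def cL0_pi_M2 : Nat := Nat.sub (Nat.shiftLeft 1 256) 1
noncomputable def cL0_pi (p : Nat) : Nat :=
  force (Nat.shiftRight p 12) fun b1 => force (Nat.land (Nat.shiftRight p 5) 127) fun b2 =>
    Nat.land (Nat.shiftRight (Nat.land (Nat.shiftRight (Nat.land (Nat.shiftRight cL0_pi_T (Nat.mul b1 32768)) cL0_pi_M1) (Nat.mul b2 256)) cL0_pi_M2) (Nat.mul (Nat.land p 31) 8)) 255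

noncomputable def cL0_tr_T : Nat := cL0_tr_p0
noncomputable def cL0_tr_M1 : Nat := Nat.sub (Nat.shiftLeft 1 45056) 1
noncomputable def cL0_tr_M2 : Nat := Nat.sub (Nat.shiftLeft 1 352) 1
noncomputable def cL0_tr (p : Nat) : Nat :=
  force (Nat.shiftRight p 12) fun b1 => force (Nat.land (Nat.shiftRight p 5) 127) fun b2 =>
    Nat.land (Nat.shiftRight (Nat.land (Nat.shiftRight (Nat.land (Nat.shiftRight cL0_tr_T (Nat.mul b1 45056)) cL0_tr_M1) (Nat.mul b2 352)) cL0_tr_M2) (Nat.mul (Nat.land p 31) 11)) 2047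

noncomputable def cL0 : LevD := ⟨0, 240, 6, 29, cL0_pt, cL0_pi, cL0_tr⟩

noncomputable def cL1_pt_T : Nat := cL1_pt_p0
noncomputable def cL1_pt_M1 : Nat := Nat.sub (Nat.shiftLeft 1 36864) 1
noncomputable def cL1_pt_M2 : Nat := Nat.sub (Nat.shiftLeft 1 288) 1
noncomputable def cL1_pt (p : Nat) : Nat :=
  force (Nat.shiftRight p 12) fun b1 => force (Nat.land (Nat.shiftRight p 5) 127) fun b2 =>
    Nat.land (Nat.shiftRight (Nat.land (Nat.shiftRight (Nat.land (Nat.shiftRight cL1_pt_T (Nat.mul b1 36864)) cL1_pt_M1) (Nat.mul b2 288)) cL1_pt_M2) (Nat.mul (Nat.land p 31) 9)) 511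

noncomputable def cL1_pi_T : Nat := cL1_pi_p0
noncomputable def cL1_pi_M1 : Nat := Nat.sub (Nat.shiftLeft 1 24576) 1
noncomputable def cL1_pi_M2 : Nat := Nat.sub (Nat.shiftLeft 1 192) 1
noncomputable def cL1_pi (p : Nat) : Nat :=
  force (Nat.shiftRight p 12) fun b1 => force (Nat.land (Nat.shiftRight p 5) 127) fun b2 =>
    Nat.land (Nat.shiftRight (Nat.land (Nat.shiftRight (Nat.land (Nat.shiftRight cL1_pi_T (Nat.mul b1 24576)) cL1_pi_M1) (Nat.mul b2 192)) cL1_pi_M2) (Nat.mul (Nat.land p 31) 6)) 63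

noncomputable def cL1_tr_T : Nat := cL1_tr_p0
noncomputable def cL1_tr_M1 : Nat := Nat.sub (Nat.shiftLeft 1 28672) 1
noncomputable def cL1_tr_M2 : Nat := Nat.sub (Nat.shiftLeft 1 224) 1
noncomputable def cL1_tr (p : Nat) : Nat :=
  force (Nat.shiftRight p 12) fun b1 => force (Nat.land (Nat.shiftRight p 5) 127) fun b2 =>
    Nat.land (Nat.shiftRight (Nat.land (Nat.shiftRight (Nat.land (Nat.shiftRight cL1_tr_T (Nat.mul b1 28672)) cL1_tr_M1) (Nat.mul b2 224)) cL1_tr_M2) (Nat.mul (Nat.land p 31) 7)) 127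

noncomputable def cL1 : LevD := ⟨2, 56, 2, 35, cL1_pt, cL1_pi, cL1_tr⟩

noncomputable def cL2_pt_T : Nat := cL2_pt_p0
noncomputable def cL2_pt_M1 : Nat := Nat.sub (Nat.shiftLeft 1 36864) 1
noncomputable def cL2_pt_M2 : Nat := Nat.sub (Nat.shiftLeft 1 288) 1
noncomputable def cL2_pt (p : Nat) : Nat :=
  force (Nat.shiftRight p 12) fun b1 => force (Nat.land (Nat.shiftRight p 5) 127) fun b2 =>
    Nat.land (Nat.shiftRight (Nat.land (Nat.shiftRight (Nat.land (Nat.shiftRight cL2_pt_T (Nat.mul b1 36864)) cL2_pt_M1) (Nat.mul b2 288)) cL2_pt_M2) (Nat.mul (Nat.land p 31) 9)) 511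

noncomputable def cL2_pi_T : Nat := cL2_pi_p0
noncomputable def cL2_pi_M1 : Nat := Nat.sub (Nat.shiftLeft 1 8192) 1
noncomputable def cL2_pi_M2 : Nat := Nat.sub (Nat.shiftLeft 1 64) 1
noncomputable def cL2_pi (p : Nat) : Nat :=
  force (Nat.shiftRight p 12) fun b1 => force (Nat.land (Nat.shiftRight p 5) 127) fun b2 =>
    Nat.land (Nat.shiftRight (Nat.land (Nat.shiftRight (Nat.land (Nat.shiftRight cL2_pi_T (Nat.mul b1 8192)) cL2_pi_M1) (Nat.mul b2 64)) cL2_pi_M2) (Nat.mul (Nat.land p 31) 2)) 3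

noncomputable def cL2_tr_T : Nat := cL2_tr_p0
noncomputable def cL2_tr_M1 : Nat := Nat.sub (Nat.shiftLeft 1 8192) 1
noncomputable def cL2_tr_M2 : Nat := Nat.sub (Nat.shiftLeft 1 64) 1
noncomputable def cL2_tr (p : Nat) : Nat :=
  force (Nat.shiftRight p 12) fun b1 => force (Nat.land (Nat.shiftRight p 5) 127) fun b2 =>
    Nat.land (Nat.shiftRight (Nat.land (Nat.shiftRight (Nat.land (Nat.shiftRight cL2_tr_T (Nat.mul b1 8192)) cL2_tr_M1) (Nat.mul b2 64)) cL2_tr_M2) (Nat.mul (Nat.land p 31) 2)) 3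

noncomputable def cL2 : LevD := ⟨1, 3, 2, 37, cL2_pt, cL2_pi, cL2_tr⟩

noncomputable def ds : List LevD := [dL0, dL1, dL2, dL3, dL4]
noncomputable def cs : List LevD := [cL0, cL1, cL2]

noncomputable def FPL_T : Nat := (Nat.lor (Nat.lor (Nat.lor (Nat.lor FPL_p0 (Nat.shiftLeft (Nat.lor FPL_p1 (Nat.shiftLeft FPL_p2 15984)) 15984)) (Nat.shiftLeft (Nat.lor FPL_p3 (Nat.shiftLeft (Nat.lor FPL_p4 (Nat.shiftLeft FPL_p5 15984)) 15984)) 47952)) (Nat.shiftLeft (Nat.lor (Nat.lor FPL_p6 (Nat.shiftLeft (Nat.lor FPL_p7 (Nat.shiftLeft FPL_p8 15984)) 15984)) (Nat.shiftLeft (Nat.lor (Nat.lor FPL_p9 (Nat.shiftLeft FPL_p10 15984)) (Nat.shiftLeft (Nat.lor FPL_p11 (Nat.shiftLeft FPL_p12 15984)) 31968)) 47952)) 95904)) (Nat.shiftLeft (Nat.lor (Nat.lor (Nat.lor FPL_p13 (Nat.shiftLeft (Nat.lor FPL_p14 (Nat.shiftLeft FPL_p15 15984)) 15984)) (Nat.shiftLeft (Nat.lor FPL_p16 (Nat.shiftLeft (Nat.lor FPL_p17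 (Nat.shiftLeft FPL_p18 15984)) 15984)) 47952)) (Nat.shiftLeft (Nat.lor (Nat.lor FPL_p19 (Nat.shiftLeft (Nat.lor FPL_p20 (Nat.shiftLeft FPL_p21 15984)) 15984)) (Nat.shiftLeft (Nat.lor (Nat.lor FPL_p22 (Nat.shiftLeft FPL_p23 15984)) (Nat.shiftLeft (Nat.lor FPL_p24 (Nat.shiftLeft FPL_p25 15984)) 31968)) 47952)) 95904)) 207792))
noncomputable def FPL_M1 : Nat := Nat.sub (Nat.shiftLeft 1 73728) 1
noncomputable def FPL_M2 : Nat := Nat.sub (Nat.shiftLeft 1 576) 1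
noncomputable def FPL (p : Nat) : Nat :=
  force (Nat.shiftRight p 12) fun b1 => force (Nat.land (Nat.shiftRight p 5) 127) fun b2 =>
    Nat.land (Nat.shiftRight (Nat.land (Nat.shiftRight (Nat.land (Nat.shiftRight FPL_T (Nat.mul b1 73728)) FPL_M1) (Nat.mul b2 576)) FPL_M2) (Nat.mul (Nat.land p 31) 18)) 262143

noncomputable def DD : Frs := ⟨1, 6141, FPL, 8, 47, 7, 22275, [233, 229, 154, 116, 52]⟩

noncomputable def SPK_T : Nat := SPK_p0
noncomputable def SPK_M1 : Nat := Nat.sub (Nat.shiftLeft 1 73728) 1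
noncomputable def SPK_M2 : Nat := Nat.sub (Nat.shiftLeft 1 576) 1
noncomputable def SPK (p : Nat) : Nat :=
  force (Nat.shiftRight p 12) fun b1 => force (Nat.land (Nat.shiftRight p 5) 127) fun b2 =>
    Nat.land (Nat.shiftRight (Nat.land (Nat.shiftRight (Nat.land (Nat.shiftRight SPK_T (Nat.mul b1 73728)) SPK_M1) (Nat.mul b2 576)) SPK_M2) (Nat.mul (Nat.land p 31) 18)) 262143

noncomputable def SCN_T : Nat := SCN_p0
noncomputable def SCN_M1 : Nat := Nat.sub (Nat.shiftLeft 1 24576) 1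
noncomputable def SCN_M2 : Nat := Nat.sub (Nat.shiftLeft 1 192) 1
noncomputable def SCN (p : Nat) : Nat :=
  force (Nat.shiftRight p 12) fun b1 => force (Nat.land (Nat.shiftRight p 5) 127) fun b2 =>
    Nat.land (Nat.shiftRight (Nat.land (Nat.shiftRight (Nat.land (Nat.shiftRight SCN_T (Nat.mul b1 24576)) SCN_M1) (Nat.mul b2 192)) SCN_M2) (Nat.mul (Nat.land p 31) 6)) 63

noncomputable def WPT_T : Nat := WPT_p0
noncomputable def WPT_M1 : Nat := Nat.sub (Nat.shiftLeft 1 36864) 1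
noncomputable def WPT_M2 : Nat := Nat.sub (Nat.shiftLeft 1 288) 1
noncomputable def WPT (p : Nat) : Nat :=
  force (Nat.shiftRight p 12) fun b1 => force (Nat.land (Nat.shiftRight p 5) 127) fun b2 =>
    Nat.land (Nat.shiftRight (Nat.land (Nat.shiftRight (Nat.land (Nat.shiftRight WPT_T (Nat.mul b1 36864)) WPT_M1) (Nat.mul b2 288)) WPT_M2) (Nat.mul (Nat.land p 31) 9)) 511

noncomputable def WPI_T : Nat := WPI_p0
noncomputable def WPI_M1 : Nat := Nat.sub (Nat.shiftLeft 1 20480) 1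
noncomputable def WPI_M2 : Nat := Nat.sub (Nat.shiftLeft 1 160) 1
noncomputable def WPI (p : Nat) : Nat :=
  force (Nat.shiftRight p 12) fun b1 => force (Nat.land (Nat.shiftRight p 5) 127) fun b2 =>
    Nat.land (Nat.shiftRight (Nat.land (Nat.shiftRight (Nat.land (Nat.shiftRight WPI_T (Nat.mul b1 20480)) WPI_M1) (Nat.mul b2 160)) WPI_M2) (Nat.mul (Nat.land p 31) 5)) 31

def sqL : List Nat := [0, 1, 0, 0, 0, 0, 0]
def wlL : List Nat := [0, 0, 0, 1, 1, 1, 1]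
def wsL : List Nat := [1, 2, 4, 1, 2, 4, 8]
def wbL : List Nat := [1, 0]
def wmL : List Nat := [8, 16]
noncomputable def SS : PcD where
  off := 55
  a := 7
  sq := fun k => sqL.getD k 0
  cn := SCN
  wl := fun k => wlL.getD k 0
  ws := fun k => wsL.getD k 0
  wb := fun k => wbL.getD k 0
  wpt := fun l i => WPT (Nat.add (Nat.mul l 16) i)
  wpi := fun l q => WPI (Nat.add (Nat.mul l 275) q)
  wm := fun k => wmL.getD k 0
  lv := 2
  pk := SPK

noncomputable def Os : List Frs := []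

def wdsL : List (List Nat) := [
  ]
def wds (j : Nat) : List Nat := wdsL.getD j []

def Bs : List Nat := [0, 1, 2, 4, 5]

def rs : List (List Bool × Nat × Nat) := [([true, false], 5, 84),
  ([true, true, false], 9, 163),
  ([true, true, true, true, false, true, true, true, true, true, true, false], 5, 130),
  ([true, false], 5, 211),
  ([true, true, false, true, true, true, true, false, true, true, true, false], 7, 25)]

def goods : List (Nat × Nat) := [(6141, 0), (8263, 1), (4584, 2), (3609, 3), (21003, 4), (10485, 5), (4191, 6), (19274, 7), (5454, 8), (1617, 9), (9204, 10)]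

def goods2 : List (Nat × Nat) := [(5092, 0), (11341, 1), (4589, 2), (20631, 3), (9937, 4), (8408, 5), (3461, 6), (636, 7), (18842, 8), (13978, 9), (11960, 10)]

def goodIdx : List Nat := (goods ++ goods2).map Prod.fst

def R2 : List (Nat × List (List Bool × Nat × Nat)) := [(2, [([true, false], 5, 84), ([true, true, false], 9, 192), ([true, true, true, true, false, true, true, true, true, true, true, false], 5, 40), ([true, true, false, true, true, true, true, false, true, true, true, false], 7, 25)])]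


end Cfsg.Agent.Lib.PermComp.OutP.McLo
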