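import Cfsg.Agent.Lib.PermComp.OutP.McLo.Data

set_option autoImplicit false
set_option maxRecDepth 100000
set_option maxHeartbeats 0

namespace Cfsg.Agent.Lib.PermComp.OutP.McLo

open Cfsg Cfsg.Agent.Lib.PermComp.OutP
open Cfsg.Agent.Lib.PermComp.Core (force)
open Cfsg.Agent.Lib.PermComp.Kron (rangeAll rangeAll_spec)

theorem r2_c0_0 : rangeAll (fun i => relAny (powA (F 0) 2) (DD.v F i) (R2.getD 0 (0, [])).2) 0 22275 = true := by decide +kernel
theorem ji_ck : rangeAll (invOK n (F 78) (F 79)) 0 275 = true := by decide +kernel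
theorem jA_ck : rangeAll (fun q => Nat.beq (F 78 (F 0 q)) (F 0 (F 78 q))) 0 275 = true := by decide +kernel
theorem jb_ck : rangeAll (fun q => Nat.beq (F 78 (DD.v F 5092 q)) (F 1 (F 78 q))) 0 275 = true := by decide +kernel
def rwL : List Nat := [9, 7, 8, 4, 5, 4, 4, 5, 2, 0, 0, 0, 1, 0, 1, 0, 0, 0, 1, 0]
theorem gr_ck : rangeAll (fun q => Nat.beq (F 80 q) (wApp F rwL (F 78 q))) 0 275 = true := by decide +kernel
theorem d1s_ck : rangeAll (fun q => Core.ifB (Nat.blt (dL0.pi q) dL0.m) (Nat.beq (dL0.pt (dL0.pi q)) q)) 0 275 = true := by decide +kernel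
theorem mv_ck : rangeAll (moved F dL0.b dL1.off dL1.cnt) 0 275 = true := by decide +kernel

end Cfsg.Agent.Lib.PermComp.OutP.McLo
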